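import Groth.Agent.FibreDim.Chart
import Groth.Agent.GeomUnib.EquidimLocal

/-!
# Local dimension of fibre rings
-/

set_option autoImplicit false
set_option maxHeartbeats 1000000

universe u

open AlgebraicGeometry CategoryTheory TopologicalSpace Topology

namespace Groth.Agent.FibreSpec

/-- Quasi-finiteness holds on a principal open. -/
theorem exists_quasiFinite_away {R S : Type u} [CommRing R] [CommRing S] [Algebra R S]
    [Algebra.FiniteType R S] (p : Ideal S) [p.IsPrime] [Algebra.QuasiFiniteAt R p] :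
    ∃ r, r ∉ p ∧ Algebra.QuasiFinite R (Localization.Away r) := by
  obtain ⟨S', hS', r, hrp, H⟩ :=
    Algebra.QuasiFiniteAt.exists_fg_and_exists_notMem_and_awayMap_bijective (R := R) p
  have : Module.Finite R S' := ⟨(Submodule.fg_top _).mpr hS'⟩
  have : Algebra.QuasiFinite R (Localization.Away r) := .trans _ S' _
  exact ⟨r.1, hrp, .of_surjective_algHom (Localization.awayMapₐ S'.val r) H.2⟩

variable {R S : Type u} [CommRing R] [CommRing S] [Algebra R S]

theorem comap_includeRight_symm (p : PrimeSpectrum R) (Q : PrimeSpectrum (p.asIdeal.Fiber S)) :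
    ((PrimeSpectrum.preimageHomeomorphFiber R S p).symm Q).1.asIdeal =
      Q.asIdeal.comap (Algebra.TensorProduct.includeRight.toRingHom : S →+* p.asIdeal.Fiber S) :=
  rfl

theorem symm_eq (p : Ideal R) [p.IsPrime] (Q : PrimeSpectrum (p.Fiber S)) (q : PrimeSpectrum S)
    (hQ : Q.asIdeal.comap (Algebra.TensorProduct.includeRight.toRingHom) = q.asIdeal) :
    ((PrimeSpectrum.preimageHomeomorphFiber R S ⟨p, inferInstance⟩).symm Q).1 = q :=
  PrimeSpectrum.ext ((comap_includeRight_symm (⟨p, inferInstance⟩ : PrimeSpectrum R) Q).trans hQ)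

/-- The local dimension of the fibre ring at a prime is the fibre dimension. -/
theorem localDim_eq_fibreDimAt [Algebra.FiniteType R S] (p : Ideal R) [p.IsPrime] (q : PrimeSpectrum S)
    (Q : PrimeSpectrum (p.Fiber S))
    (hQ : Q.asIdeal.comap (Algebra.TensorProduct.includeRight.toRingHom) = q.asIdeal) :
    FlatMor.localDim (PrimeSpectrum (p.Fiber S)) Q =
      FlatMor.fibreDimAt (Spec.map (CommRingCat.ofHom (algebraMap R S))) q := by
  let f : Spec (CommRingCat.of S) ⟶ Spec (CommRingCat.of R) := Spec.map (CommRingCat.ofHom (algebraMap R S))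
  let e := PrimeSpectrum.preimageHomeomorphFiber R S ⟨p, inferInstance⟩
  have hq := symm_eq p Q q hQ
  have hfq : f.base q = (⟨p, inferInstance⟩ : PrimeSpectrum R) := by
    rw [← hq]
    exact (e.symm Q).2
  let e' : ↥(PrimeSpectrum.comap (algebraMap R S) ⁻¹' {(⟨p, inferInstance⟩ : PrimeSpectrum R)}) ≃ₜ
      ↥((Set.univ : Set (Spec (CommRingCat.of S))) ∩ f.base ⁻¹' {f.base q}) :=
    Homeomorph.setCongr (by rw [hfq, Set.univ_inter]; rfl)
  refine (FibreDim.localDim_homeo e.symm Q).trans ?_
  refine (FibreDim.localDim_homeo e' (e.symm Q)).trans ?_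
  refine Eq.trans ?_ (FibreDim.fibreDimAt_eq f q).symm
  exact congrArg (FlatMor.localDim _) (Subtype.ext hq)

/-- Quasi-finite charts into affine space on a principal open. -/
theorem exists_away_quasiFinite [Algebra.FiniteType R S] (p : Ideal R) [p.IsPrime] (q : Ideal S) [q.IsPrime]
    (Q : PrimeSpectrum (p.Fiber S))
    (hQ : Q.asIdeal.comap (Algebra.TensorProduct.includeRight.toRingHom) = q) (n : ℕ)
    (hdim : FlatMor.localDim (PrimeSpectrum (p.Fiber S)) Q = (n : WithBot ℕ∞)) :
    ∃ g : S, g ∉ q ∧ ∃ φ : MvPolynomial (Fin n) R →ₐ[R] Localization.Away g,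
      φ.toRingHom.FiniteType ∧ φ.toRingHom.QuasiFinite := by
  let pp : PrimeSpectrum R := ⟨p, inferInstance⟩
  let qq : PrimeSpectrum S := ⟨q, inferInstance⟩
  let e := PrimeSpectrum.preimageHomeomorphFiber R S pp
  obtain ⟨O, hO, hQO, hOdim⟩ := FibreDim.exists_localDim Q
  obtain ⟨W, hW, hWO⟩ := isOpen_induced_iff.1 (hO.preimage e.continuous)
  have hq : (e.symm Q).1 = qq := symm_eq p Q qq hQ
  have hqW : qq ∈ W := by
    rw [← hq]
    show e.symm Q ∈ Subtype.val ⁻¹' W
    rw [hWO, Set.mem_preimage, e.apply_symm_apply]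
    exact hQO
  obtain ⟨_, ⟨g, rfl⟩, hqg, hgW⟩ := PrimeSpectrum.isTopologicalBasis_basic_opens.exists_subset_of_mem_open hqW hW
  let C := Localization.Away g
  let j : PrimeSpectrum C → PrimeSpectrum S := PrimeSpectrum.comap (algebraMap S C)
  have hj : IsOpenEmbedding j := PrimeSpectrum.localization_away_isOpenEmbedding C g
  have hjrange : Set.range j = (PrimeSpectrum.basicOpen g : Set (PrimeSpectrum S)) :=
    PrimeSpectrum.localization_away_comap_range C g
  obtain ⟨qC, hqC⟩ : qq ∈ Set.range j := by rw [hjrange]; exact hqg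
  let T : Set (PrimeSpectrum C) := PrimeSpectrum.comap (algebraMap R C) ⁻¹' {pp}
  let T₀ : Set (PrimeSpectrum S) := PrimeSpectrum.comap (algebraMap R S) ⁻¹' {pp}
  have hjT : j '' T = T₀ ∩ (PrimeSpectrum.basicOpen g : Set (PrimeSpectrum S)) := by
    ext z
    rw [← hjrange]
    constructor
    · rintro ⟨t, ht, rfl⟩
      refine ⟨?_, t, rfl⟩
      show PrimeSpectrum.comap (algebraMap R S) (PrimeSpectrum.comap (algebraMap S C) t) = pp
      rw [← PrimeSpectrum.comap_comp_apply, ← IsScalarTower.algebraMap_eq R S C]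
      exact ht
    · rintro ⟨hz, t, rfl⟩
      refine ⟨t, ?_, rfl⟩
      show PrimeSpectrum.comap (algebraMap R C) t = pp
      rw [IsScalarTower.algebraMap_eq R S C, PrimeSpectrum.comap_comp_apply]
      exact hz
  have hqCT : qC ∈ T := by
    have : qq ∈ j '' T := by rw [hjT]; exact ⟨hq ▸ (e.symm Q).2, hqg⟩
    obtain ⟨t, ht, hte⟩ := this
    exact hj.injective (hte.trans hqC.symm) ▸ ht
  haveI : Nontrivial (p.Fiber C) := by
    rw [← PrimeSpectrum.nonempty_iff_nontrivial]
    exact ⟨PrimeSpectrum.preimageHomeomorphFiber R C pp ⟨qC, hqCT⟩⟩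
  obtain ⟨n', φ, hn', hφ⟩ := FibreDim.exists_isQFAt (B := C) p
  have hdimT : topologicalKrullDim T = n := by
    rw [← FibreDim.dim_image hj.isEmbedding, hjT]
    refine le_antisymm ?_ ?_
    · rw [← hdim, ← hOdim, ← FibreDim.dim_image e.symm.isEmbedding O,
        ← FibreDim.dim_image (IsEmbedding.subtypeVal (p := (· ∈ T₀))) (e.symm '' O)]
      refine FibreDim.dim_mono fun z hz => ⟨⟨z, hz.1⟩, ⟨e ⟨z, hz.1⟩, ?_, e.symm_apply_apply _⟩, rfl⟩
      have : (⟨z, hz.1⟩ : T₀) ∈ Subtype.val ⁻¹' W := hgW hz.2
      rwa [hWO] at this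
    · rw [← hdim]
      have ho : IsOpen (e.symm ⁻¹' (Subtype.val ⁻¹' (PrimeSpectrum.basicOpen g : Set (PrimeSpectrum S)))) :=
        ((PrimeSpectrum.basicOpen g).2.preimage continuous_subtype_val).preimage e.symm.continuous
      refine (FibreDim.localDim_le ho (show (e.symm Q).1 ∈ PrimeSpectrum.basicOpen g by rw [hq]; exact hqg)).trans ?_
      rw [← FibreDim.dim_image e.symm.isEmbedding,
        ← FibreDim.dim_image (IsEmbedding.subtypeVal (p := (· ∈ T₀)))]
      refine FibreDim.dim_mono ?_
      rintro _ ⟨_, ⟨Q', hQ', rfl⟩, rfl⟩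
      exact ⟨(e.symm Q').2, hQ'⟩
  have hnn : n' = n := by
    have h1 : topologicalKrullDim T = ringKrullDim (p.Fiber C) :=
      (FibreDim.dim_homeo (PrimeSpectrum.preimageHomeomorphFiber R C pp)).trans
        (PrimeSpectrum.topologicalKrullDim_eq_ringKrullDim _)
    rw [hn', hdimT] at h1
    exact_mod_cast h1.symm
  subst hnn
  have hqf := hφ qC.asIdeal (congrArg PrimeSpectrum.asIdeal hqCT)
  letI : Algebra (MvPolynomial (Fin n') R) C := φ.toRingHom.toAlgebra
  haveI : IsScalarTower R (MvPolynomial (Fin n') R) C :=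
    IsScalarTower.of_algebraMap_eq fun a => (φ.commutes a).symm
  haveI : Algebra.FiniteType R C := Algebra.FiniteType.trans (S := S) inferInstance inferInstance
  haveI : Algebra.FiniteType (MvPolynomial (Fin n') R) C :=
    Algebra.FiniteType.of_restrictScalars_finiteType R _ _
  haveI : Algebra.QuasiFiniteAt (MvPolynomial (Fin n') R) qC.asIdeal := hqf
  obtain ⟨r, hrp, _⟩ := exists_quasiFinite_away (R := MvPolynomial (Fin n') R) qC.asIdeal
  obtain ⟨k, a, ha⟩ := IsLocalization.Away.surj g r
  refine ⟨g * a, fun hmem => ?_, ?_⟩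
  · rcases (inferInstance : q.IsPrime).mem_or_mem hmem with h | h
    · exact hqg h
    · apply hrp
      have h1 : algebraMap S C a ∈ qC.asIdeal := by
        show a ∈ (j qC).asIdeal
        rw [hqC]
        exact h
      rw [← ha] at h1
      refine (qC.2.mem_or_mem h1).resolve_right fun h2 => qC.2.ne_top
        (Ideal.eq_top_of_isUnit_mem _ h2 ((IsLocalization.Away.algebraMap_isUnit g).pow k))
  let D := Localization.Away (g * a)
  have hu : IsUnit (algebraMap S D g * algebraMap S D a) := by
    rw [← map_mul]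
    exact IsLocalization.Away.algebraMap_isUnit (g * a)
  have hug : IsUnit (algebraMap S D g) := isUnit_of_mul_isUnit_left hu
  let ι : C →ₐ[R] D :=
    { IsLocalization.Away.lift (g := algebraMap S D) g hug with
      commutes' := fun c => by
        show IsLocalization.Away.lift g hug (algebraMap R C c) = _
        rw [IsScalarTower.algebraMap_apply R S C, IsLocalization.Away.lift_eq, ← IsScalarTower.algebraMap_apply R S D] }
  have hι : ∀ s, ι (algebraMap S C s) = algebraMap S D s := fun s => IsLocalization.Away.lift_eq g hug s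
  refine ⟨ι.comp φ, ?_, ?_⟩
  · refine RingHom.FiniteType.of_comp_finiteType (f := algebraMap R (MvPolynomial (Fin n') R)) ?_
    rw [AlgHom.toRingHom_eq_coe, AlgHom.comp_algebraMap, RingHom.finiteType_algebraMap]
    exact Algebra.FiniteType.trans (S := S) inferInstance inferInstance
  letI : Algebra (MvPolynomial (Fin n') R) D := (ι.comp φ).toRingHom.toAlgebra
  show Algebra.QuasiFinite (MvPolynomial (Fin n') R) D
  have hur : IsUnit (ι r) := by
    have h1 : ι r * ι (algebraMap S C g) ^ k = algebraMap S D a := by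
      rw [← map_pow, ← map_mul, ha, hι]
    exact isUnit_of_mul_isUnit_left (h1 ▸ isUnit_of_mul_isUnit_right hu)
  let ψ : Localization.Away r →ₐ[MvPolynomial (Fin n') R] D :=
    { IsLocalization.Away.lift (g := ι.toRingHom) r hur with
      commutes' := fun c => by
        show IsLocalization.Away.lift r hur (algebraMap _ (Localization.Away r) c) = _
        rw [IsScalarTower.algebraMap_apply (MvPolynomial (Fin n') R) C (Localization.Away r),
          IsLocalization.Away.lift_eq]
        rfl }
  have hψ : ∀ c, ψ (algebraMap C (Localization.Away r) c) = ι c := fun c => IsLocalization.Away.lift_eq r hur c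
  refine Algebra.QuasiFinite.of_surjective_algHom ψ fun x => ?_
  obtain ⟨m, s, hs⟩ := IsLocalization.Away.surj (g * a) x
  have hga : IsUnit (algebraMap C (Localization.Away r) (algebraMap S C (g * a))) := by
    rw [map_mul, ← ha, map_mul, map_mul]
    exact ((IsLocalization.Away.algebraMap_isUnit g).map _).mul
      ((IsLocalization.Away.algebraMap_isUnit r).mul (((IsLocalization.Away.algebraMap_isUnit g).pow k).map _))
  refine ⟨algebraMap C (Localization.Away r) (algebraMap S C s) * ((hga.pow m).unit⁻¹ : (Localization.Away r)ˣ), ?_⟩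
  have hu' : IsUnit (algebraMap S D (g * a) ^ m) := (IsLocalization.Away.algebraMap_isUnit (g * a)).pow m
  refine hu'.mul_right_cancel ?_
  rw [hs, map_mul, hψ, hι, mul_assoc]
  have h2 : algebraMap S D (g * a) ^ m = ψ (((hga.pow m).unit : (Localization.Away r)ˣ) : Localization.Away r) := by
    rw [IsUnit.unit_spec, map_pow, hψ, hι]
  rw [h2, ← map_mul, Units.inv_mul, map_one, mul_one]

end Groth.Agent.FibreSpec
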